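import Mathlib.GroupTheory.IsSubnormal
import Mathlib.GroupTheory.Index
import Mathlib.GroupTheory.Sylow
import Mathlib.Order.Atoms

/-!
Wielandt's join theorem for subnormal subgroups of a finite group, and consequences.
-/

set_option autoImplicit false

namespace Cfsg.Agent.Lib.Subnormal

universe u

/-- Auxiliary: the join theorem when `B` normalizes `A`, given the theorem in smaller groups. -/
theorem isSubnormal_sup_of_normalizes_aux (G : Type u) [Group G] [Finite G]
    (ih : ∀ (H : Type u) [Group H] [Finite H], Nat.card H < Nat.card G →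
      ∀ A B : Subgroup H, A.IsSubnormal → B.IsSubnormal → (A ⊔ B).IsSubnormal)
    (A B : Subgroup G) (hA : A.IsSubnormal) (hB : B.IsSubnormal)
    (hBA : B ≤ Subgroup.normalizer (A : Set G)) : (A ⊔ B).IsSubnormal := by
  set N := Subgroup.normalClosure (A : Set G) with hNdef
  have hAN : A ≤ N := Subgroup.le_normalClosure
  set X := B ⊔ N with hXdef
  by_cases hX : X = ⊤
  · -- then `A = N` is normal and `A ⊔ B = G`
    have hAeq : A = N := by
      have hsub : (A.subgroupOf N).IsSubnormal := hA.subgroupOf
      set S : Set G := {x | ∃ n ∈ N, ∃ a ∈ A, x = n * a * n⁻¹} with hS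
      have hSN : ∀ x ∈ S, x ∈ N := by
        rintro x ⟨n, hn, a, ha, rfl⟩
        exact mul_mem (mul_mem hn (hAN ha)) (inv_mem hn)
      have hAS : A ≤ Subgroup.closure S := fun a ha =>
        Subgroup.subset_closure ⟨1, one_mem N, a, ha, by simp⟩
      have hMN : Subgroup.closure S ≤ N := (Subgroup.closure_le _).mpr hSN
      have hmove : ∀ g : G, (∀ x ∈ S, g * x * g⁻¹ ∈ S) →
          g ∈ Subgroup.normalizer (Subgroup.closure S : Set G) := by
        intro g hg
        have hle : (Subgroup.closure S).map (MulAut.conj g).toMonoidHom ≤ Subgroup.closure S := by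
          rw [MonoidHom.map_closure, Subgroup.closure_le]
          rintro _ ⟨x, hx, rfl⟩
          exact Subgroup.subset_closure (hg x hx)
        have hfin := Subgroup.eq_of_le_of_card_ge hle (le_of_eq
          (Nat.card_congr ((Subgroup.closure S).equivMapOfInjective (MulAut.conj g).toMonoidHom
            (MulAut.conj g).injective).toEquiv))
        rw [Subgroup.mem_normalizer_iff]
        intro h
        refine ⟨fun hh => hle ⟨h, hh, rfl⟩, fun hh => ?_⟩
        rw [← hfin] at hh
        obtain ⟨y, hy, hy2⟩ := hh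
        have : y = h := (MulAut.conj g).injective hy2
        exact this ▸ hy
      have hnorm : (Subgroup.closure S).Normal := by
        rw [← Subgroup.normalizer_eq_top_iff, eq_top_iff, ← hX, hXdef]
        refine sup_le (fun b hb => hmove b ?_) (fun m hm => hmove m ?_)
        · rintro x ⟨n, hn, a, ha, rfl⟩
          refine ⟨b * n * b⁻¹, (inferInstance : N.Normal).conj_mem n hn b,
            b * a * b⁻¹, ((Subgroup.mem_normalizer_iff.mp (hBA hb)) a).mp ha, by simp [mul_assoc]⟩
        · rintro x ⟨n, hn, a, ha, rfl⟩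
          exact ⟨m * n, mul_mem hm hn, a, ha, by simp [mul_assoc]⟩
      have hM : Subgroup.closure S = N := le_antisymm hMN (Subgroup.normalClosure_le_normal hAS)
      rcases hsub.lt_normal with h | ⟨K, hK, hAK, hKlt⟩
      · exact le_antisymm hAN (Subgroup.subgroupOf_eq_top.mp h)
      · exfalso
        apply hKlt.ne
        rw [eq_top_iff, ← Subgroup.map_subtype_le_map_subtype, ← MonoidHom.range_eq_map,
          Subgroup.range_subtype]
        conv_lhs => rw [← hM]
        rw [Subgroup.closure_le]
        rintro x ⟨n, hn, a, ha, rfl⟩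
        refine ⟨⟨n, hn⟩ * ⟨a, hAN ha⟩ * ⟨n, hn⟩⁻¹, ?_, rfl⟩
        exact hK.conj_mem _ (hAK (Subgroup.mem_subgroupOf.mpr ha)) _
    rw [hAeq, sup_comm, ← hXdef, hX]
    exact Subgroup.IsSubnormal.top
  · -- work inside the proper subnormal subgroup `X = B ⊔ N`
    have hXsn : X.IsSubnormal := by
      have h := (hB.map (QuotientGroup.mk'_surjective N)).comap (QuotientGroup.mk' N)
      rwa [Subgroup.comap_map_eq, QuotientGroup.ker_mk'] at h
    have hlt : Nat.card X < Nat.card G := by
      rcases Nat.lt_or_ge (Nat.card X) (Nat.card G) with h | h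
      · exact h
      · exact absurd (Subgroup.eq_top_of_le_card X h) hX
    have hle : A ⊔ B ≤ X := sup_le (hAN.trans le_sup_right) le_sup_left
    refine Subgroup.IsSubnormal.trans hle ?_ hXsn
    rw [Subgroup.subgroupOf_sup (hAN.trans le_sup_right) le_sup_left]
    exact ih X hlt _ _ hA.subgroupOf hB.subgroupOf

theorem isSubnormal_sup_aux (n : ℕ) : ∀ (G : Type u) [Group G] [Finite G], Nat.card G ≤ n →
    ∀ A B : Subgroup G, A.IsSubnormal → B.IsSubnormal → (A ⊔ B).IsSubnormal := by
  induction n with
  | zero =>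
    intro G _ _ h
    exact absurd h (Nat.card_pos (α := G)).not_ge
  | succ n ih =>
    intro G _ _ hcard A B hA hB
    have ih' : ∀ (H : Type u) [Group H] [Finite H], Nat.card H < Nat.card G →
        ∀ A B : Subgroup H, A.IsSubnormal → B.IsSubnormal → (A ⊔ B).IsSubnormal :=
      fun H _ _ h => ih H (by omega)
    rcases hA.lt_normal with rfl | ⟨N, hN, hAN, hNlt⟩
    · rw [top_sup_eq]
      exact Subgroup.IsSubnormal.top
    have hlt : Nat.card N < Nat.card G := by
      rcases Nat.lt_or_ge (Nat.card N) (Nat.card G) with h | h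
      · exact h
      · exact absurd (Subgroup.eq_top_of_le_card N h) hNlt.ne
    set J := A ⊔ B with hJ
    let conjA : J → Subgroup G := fun x => A.map (MulAut.conj (x : G)).toMonoidHom
    set C : Subgroup G := ⨆ x : J, conjA x with hC
    have hconjN : ∀ x : J, conjA x ≤ N := by
      rintro x _ ⟨a, ha, rfl⟩
      exact hN.conj_mem a (hAN ha) _
    have hCN : C ≤ N := iSup_le hconjN
    have hAC : A ≤ C := by
      refine le_trans ?_ (le_iSup conjA 1)
      intro a ha
      exact ⟨a, ha, by simp⟩
    have hCJ : C ≤ J := iSup_le fun x => by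
      rintro _ ⟨a, ha, rfl⟩
      exact mul_mem (mul_mem x.2 (le_sup_left (b := B) ha)) (inv_mem x.2)
    have hCsn : C.IsSubnormal := by
      refine Subgroup.IsSubnormal.trans hCN ?_ hN.isSubnormal
      have key : ∀ s : Finset J,
          ((s.sup conjA).subgroupOf N).IsSubnormal ∧ s.sup conjA ≤ N := by
        classical
        intro s
        induction s using Finset.induction_on with
        | empty => simp
        | insert x t _ iht =>
          rw [Finset.sup_insert]
          refine ⟨?_, sup_le (hconjN x) iht.2⟩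
          rw [Subgroup.subgroupOf_sup (hconjN x) iht.2]
          exact ih' N hlt _ _ ((hA.map (MulAut.conj (x : G)).surjective).subgroupOf) iht.1
      have := Fintype.ofFinite J
      have hCeq : C = Finset.univ.sup conjA := by
        simp [Finset.sup_eq_iSup, hC]
      rw [hCeq]
      exact (key _).1
    have hBC : B ≤ Subgroup.normalizer (C : Set G) := by
      intro b hb
      have hle : ∀ g ∈ J, C.map (MulAut.conj g).toMonoidHom ≤ C := by
        intro g hg
        rw [hC, Subgroup.map_iSup]
        refine iSup_le fun x => ?_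
        refine le_trans ?_ (le_iSup conjA (⟨g, hg⟩ * x))
        rintro _ ⟨_, ⟨a, ha, rfl⟩, rfl⟩
        exact ⟨a, ha, by simp⟩
      rw [Subgroup.mem_normalizer_iff]
      intro h
      refine ⟨fun hh => hle b (le_sup_right (a := A) hb) ⟨h, hh, rfl⟩, fun hh => ?_⟩
      have := hle b⁻¹ (inv_mem (le_sup_right (a := A) hb)) ⟨_, hh, rfl⟩
      simpa [mul_assoc] using this
    have hJC : J = C ⊔ B := le_antisymm (sup_le (hAC.trans le_sup_left) le_sup_right)
      (sup_le hCJ le_sup_right)
    rw [hJC]
    exact isSubnormal_sup_of_normalizes_aux G ih' C B hCsn hB hBC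

/-- Wielandt: in a finite group the join of two subnormal subgroups is subnormal. -/
theorem isSubnormal_sup {G : Type u} [Group G] [Finite G] {A B : Subgroup G}
    (hA : A.IsSubnormal) (hB : B.IsSubnormal) : (A ⊔ B).IsSubnormal :=
  isSubnormal_sup_aux (Nat.card G) G le_rfl A B hA hB

/-- In a finite group the join of a family of subnormal subgroups is subnormal. -/
theorem isSubnormal_sSup {G : Type u} [Group G] [Finite G] {S : Set (Subgroup G)}
    (h : ∀ A ∈ S, A.IsSubnormal) : (sSup S).IsSubnormal := by
  classical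
  have h1 := Finset.sup_induction (s := (Set.toFinite S).toFinset) (f := id)
    (p := Subgroup.IsSubnormal) Subgroup.IsSubnormal.bot (fun _ ha _ hb => isSubnormal_sup ha hb)
    (fun a ha => h a ((Set.toFinite S).mem_toFinset.mp ha))
  rwa [Finset.sup_id_eq_sSup, Set.Finite.coe_toFinset] at h1

/-- A subnormal subgroup that is not normal in `G` has a strictly larger subnormal subgroup in
which it is normal. -/
theorem exists_lt_le_normalizer {G : Type u} [Group G] {Q : Subgroup G} (hQ : Q.IsSubnormal)
    (hne : Q ≠ ⊤) :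
    ∃ K, Q < K ∧ K.IsSubnormal ∧ K ≤ Subgroup.normalizer (Q : Set G) := by
  rcases Subgroup.IsSubnormal.iff_eq_top_or_exists.mp hQ with h | ⟨K, hK, hKsn, hn⟩
  · exact absurd h hne
  · exact ⟨K, hK, hKsn, (Subgroup.normal_subgroupOf_iff_le_normalizer hK.le).mp hn⟩

/-- If every non-trivial normal subgroup of `M` is either normal in `G` or has normalizer `M`,
then the largest subnormal subgroup of `G` inside `M` is normal in `G`. -/
theorem normal_sSup_subnormal_le {G : Type u} [Group G] [Finite G] {M : Subgroup G}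
    (hM : ∀ Q : Subgroup G, Q ≤ M → M ≤ Subgroup.normalizer (Q : Set G) → Q ≠ ⊥ → ¬ Q.Normal →
      Subgroup.normalizer (Q : Set G) ≤ M) :
    (sSup {L : Subgroup G | L.IsSubnormal ∧ L ≤ M}).Normal := by
  set Q := sSup {L : Subgroup G | L.IsSubnormal ∧ L ≤ M} with hQ
  have hsn : Q.IsSubnormal := isSubnormal_sSup fun L hL => hL.1
  have hQM : Q ≤ M := sSup_le fun L hL => hL.2
  by_contra hn
  have hne : Q ≠ ⊥ := fun h => hn (h ▸ inferInstance)
  have hMQ : M ≤ Subgroup.normalizer (Q : Set G) := by
    have hle : ∀ m ∈ M, Q.map (MulAut.conj m).toMonoidHom ≤ Q := by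
      intro m hm
      refine le_sSup ⟨hsn.map (MulAut.conj m).surjective, ?_⟩
      rintro _ ⟨q, hq, rfl⟩
      exact mul_mem (mul_mem hm (hQM hq)) (inv_mem hm)
    intro m hm
    rw [Subgroup.mem_normalizer_iff]
    refine fun h => ⟨fun hh => hle m hm ⟨h, hh, rfl⟩, fun hh => ?_⟩
    have := hle m⁻¹ (inv_mem hm) ⟨_, hh, rfl⟩
    simpa [mul_assoc] using this
  have hnt : Q ≠ ⊤ := fun h => hn (h ▸ inferInstance)
  obtain ⟨K, hK, hKsn, hKn⟩ := exists_lt_le_normalizer hsn hnt
  exact hK.not_ge (le_sSup ⟨hKsn, hKn.trans (hM Q hQM hMQ hne hn)⟩)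

/-- A subnormal subgroup inside a maximal subgroup lies in its core. -/
theorem le_normalCore_of_isCoatom {G : Type u} [Group G] [Finite G] {M N : Subgroup G}
    (hM : IsCoatom M) (hN : N.IsSubnormal) (hNM : N ≤ M) : N ≤ M.normalCore := by
  have hn : (sSup {L : Subgroup G | L.IsSubnormal ∧ L ≤ M}).Normal := by
    refine normal_sSup_subnormal_le fun Q _ hMQ _ hQn => ?_
    rcases hM.le_iff.mp hMQ with h | h
    · exact absurd (Subgroup.normalizer_eq_top_iff.mp h) hQn
    · exact h.le
  exact (le_sSup (show N ∈ {L : Subgroup G | L.IsSubnormal ∧ L ≤ M} from ⟨hN, hNM⟩)).trans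
    (Subgroup.normal_le_normalCore.mpr (sSup_le fun L hL => hL.2))

end Cfsg.Agent.Lib.Subnormal
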